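import Cfsg.Prelude.Def_JordanBlocks

/-!
The matrices commuting with a unipotent matrix of given Jordan type: explicit parametrisation,
the invertibility criterion, and the number of invertible ones over a finite field.
-/

set_option autoImplicit false
set_option maxHeartbeats 200000

namespace CfsgLib.UnipotentGL

open Matrix

variable {F : Type*} [Field F] {t : ℕ} {d : Fin t → ℕ}

/-- The index type of the matrices. -/
abbrev Idx (d : Fin t → ℕ) : Type := (k : Fin t) × Fin (d k)

/-- The index type of the parameters of the commutant. -/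
abbrev Par (d : Fin t → ℕ) : Type := (p : Fin t × Fin t) × Fin (min (d p.1) (d p.2))

/-- The predecessor of an index in its block. -/
def pre (x : Idx d) : Idx d := ⟨x.1, ⟨x.2.1 - 1, lt_of_le_of_lt (Nat.sub_le _ _) x.2.2⟩⟩

theorem idx_ext {x y : Idx d} (h : x.1 = y.1) (h' : x.2.1 = y.2.1) : x = y := by
  obtain ⟨k, a⟩ := x
  obtain ⟨l, b⟩ := y
  subst h
  simp only [Sigma.mk.injEq, heq_eq_eq, true_and]
  exact Fin.ext h'

theorem J_apply (x y : Idx d) : Cfsg.jordanTypeMatrix d F x y =
    (if x = y then 1 else 0) + (if x.2.1 ≠ 0 ∧ pre x = y then 1 else 0) := by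
  obtain ⟨k, a⟩ := x
  obtain ⟨l, b⟩ := y
  by_cases hkl : k = l
  · subst hkl
    simp only [Cfsg.jordanTypeMatrix, blockDiagonal'_apply_eq, Cfsg.jordanBlock, Matrix.of_apply, pre,
      Sigma.mk.injEq, heq_eq_eq, true_and, Fin.ext_iff]
    split_ifs <;> first | (exfalso; omega) | simp
  · rw [Cfsg.jordanTypeMatrix, blockDiagonal'_apply_ne _ _ _ hkl]
    simp [pre, hkl]

theorem J_mulVec (v : Idx d → F) (x : Idx d) :
    (Cfsg.jordanTypeMatrix d F).mulVec v x = v x + if x.2.1 ≠ 0 then v (pre x) else 0 := by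
  rw [Matrix.mulVec, dotProduct]
  simp only [J_apply, add_mul, Finset.sum_add_distrib, ite_mul, one_mul, zero_mul]
  rw [Finset.sum_ite_eq]
  simp only [Finset.mem_univ, if_true, add_right_inj]
  by_cases h : x.2.1 = 0
  · simp [h]
  · simp [h]

/-- The successor of an index in its block, when it exists. -/
def suc (x : Idx d) (h : x.2.1 + 1 < d x.1) : Idx d := ⟨x.1, ⟨x.2.1 + 1, h⟩⟩

theorem J_vecMul (w : Idx d → F) (y : Idx d) :
    Matrix.vecMul w (Cfsg.jordanTypeMatrix d F) y =
      w y + if h : y.2.1 + 1 < d y.1 then w (suc y h) else 0 := by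
  rw [Matrix.vecMul, dotProduct]
  simp only [J_apply, mul_add, Finset.sum_add_distrib, mul_ite, mul_one, mul_zero]
  rw [Finset.sum_ite_eq']
  simp only [Finset.mem_univ, if_true, add_right_inj]
  by_cases h : y.2.1 + 1 < d y.1
  · rw [dif_pos h, Finset.sum_eq_single (suc y h)]
    · rw [if_pos]
      exact ⟨Nat.succ_ne_zero _, idx_ext rfl (Nat.add_sub_cancel _ _)⟩
    · intro x _ hx
      rw [if_neg]
      rintro ⟨h1, rfl⟩
      exact hx (idx_ext rfl (by simp only [suc, pre]; omega))
    · simp
  · rw [dif_neg h]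
    refine Finset.sum_eq_zero fun x _ => if_neg ?_
    rintro ⟨h1, rfl⟩
    apply h
    have := x.2.2
    simp only [pre]
    omega

theorem commute_iff (X : Matrix (Idx d) (Idx d) F) :
    X * Cfsg.jordanTypeMatrix d F = Cfsg.jordanTypeMatrix d F * X ↔
      ∀ x y : Idx d, (if h : y.2.1 + 1 < d y.1 then X x (suc y h) else 0) =
        if x.2.1 ≠ 0 then X (pre x) y else 0 := by
  rw [← Matrix.ext_iff]
  refine forall_congr' fun x => forall_congr' fun y => ?_
  have h1 : (X * Cfsg.jordanTypeMatrix d F) x y =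
      Matrix.vecMul (fun z => X x z) (Cfsg.jordanTypeMatrix d F) y := rfl
  have h2 : (Cfsg.jordanTypeMatrix d F * X) x y =
      (Cfsg.jordanTypeMatrix d F).mulVec (fun z => X z y) x := rfl
  rw [h1, h2, J_vecMul, J_mulVec, add_right_inj]

/-- The matrix with given parameters. -/
def toMat (c : Par d → F) : Matrix (Idx d) (Idx d) F :=
  Matrix.of fun x y => if h : d x.1 - 1 - x.2.1 + y.2.1 < min (d x.1) (d y.1) then
    c ⟨(x.1, y.1), ⟨d x.1 - 1 - x.2.1 + y.2.1, h⟩⟩ else 0

theorem toMat_comm (c : Par d → F) :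
    toMat c * Cfsg.jordanTypeMatrix d F = Cfsg.jordanTypeMatrix d F * toMat c := by
  rw [commute_iff]
  rintro ⟨k, ⟨a, ha⟩⟩ ⟨l, ⟨b, hb⟩⟩
  simp only [toMat, Matrix.of_apply, suc, pre]
  split_ifs <;> first | rfl | omega | (congr 2; ext; simp only; omega)

theorem shift {X : Matrix (Idx d) (Idx d) F}
    (hX : X * Cfsg.jordanTypeMatrix d F = Cfsg.jordanTypeMatrix d F * X) (k l : Fin t) :
    ∀ (b : ℕ) (hb : b < d l) (a : ℕ) (ha : a < d k), X ⟨k, ⟨a, ha⟩⟩ ⟨l, ⟨b, hb⟩⟩ =
      if b ≤ a then X ⟨k, ⟨a - b, lt_of_le_of_lt (Nat.sub_le a b) ha⟩⟩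
        ⟨l, ⟨0, lt_of_le_of_lt (Nat.zero_le b) hb⟩⟩ else 0 := by
  intro b
  induction b with
  | zero => intro hb a ha; simp
  | succ b ih =>
    intro hb a ha
    have h := (commute_iff X).mp hX ⟨k, ⟨a, ha⟩⟩ ⟨l, ⟨b, by omega⟩⟩
    simp only [suc, pre] at h
    rw [dif_pos hb] at h
    rw [h]
    rcases Nat.eq_zero_or_pos a with rfl | ha0
    · simp
    · rw [if_pos (by omega), ih (by omega) (a - 1) (by omega)]
      by_cases hba : b + 1 ≤ a
      · rw [if_pos (by omega), if_pos hba]
        congr 3
        omega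
      · rw [if_neg (by omega), if_neg hba]

theorem first_col_zero {X : Matrix (Idx d) (Idx d) F}
    (hX : X * Cfsg.jordanTypeMatrix d F = Cfsg.jordanTypeMatrix d F * X) (k l : Fin t)
    (a : ℕ) (ha : a < d k) (hl : 0 < d l) (h : a + d l < d k) :
    X ⟨k, ⟨a, ha⟩⟩ ⟨l, ⟨0, hl⟩⟩ = 0 := by
  have h1 := shift hX k l (d l - 1) (by omega) (a + (d l - 1)) (by omega)
  rw [if_pos (by omega)] at h1
  have h2 := (commute_iff X).mp hX ⟨k, ⟨a + d l, h⟩⟩ ⟨l, ⟨d l - 1, by omega⟩⟩
  simp only [suc, pre] at h2
  rw [dif_neg (by omega), if_pos (by omega)] at h2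
  simp only [show a + d l - 1 = a + (d l - 1) by omega] at h2
  rw [h1] at h2
  simp only [Nat.add_sub_cancel] at h2
  exact h2.symm

/-- The parameters of a matrix. -/
def params (X : Matrix (Idx d) (Idx d) F) (p : Par d) : F :=
  X ⟨p.1.1, ⟨d p.1.1 - 1 - p.2.1, by have := p.2.2; omega⟩⟩ ⟨p.1.2, ⟨0, by have := p.2.2; omega⟩⟩

theorem toMat_params {X : Matrix (Idx d) (Idx d) F}
    (hX : X * Cfsg.jordanTypeMatrix d F = Cfsg.jordanTypeMatrix d F * X) : toMat (params X) = X := by
  ext ⟨k, ⟨a, ha⟩⟩ ⟨l, ⟨b, hb⟩⟩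
  simp only [toMat, Matrix.of_apply, params]
  rw [shift hX k l b hb a ha]
  split_ifs with h1 h2
  · congr 3
    omega
  · exfalso; omega
  · rw [first_col_zero hX k l (a - b) (by omega) (by omega) (by omega)]
  · rfl

theorem params_toMat (c : Par d → F) : params (toMat c) = c := by
  funext ⟨⟨k, l⟩, ⟨j, hj⟩⟩
  simp only [params, toMat, Matrix.of_apply]
  simp only at hj
  rw [dif_pos (by omega)]
  congr 2
  ext
  simp only
  omega

/-- The commutant is in bijection with the parameters. -/
def commEquiv : {X : Matrix (Idx d) (Idx d) F //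
    X * Cfsg.jordanTypeMatrix d F = Cfsg.jordanTypeMatrix d F * X} ≃ (Par d → F) where
  toFun X := params X.1
  invFun c := ⟨toMat c, toMat_comm c⟩
  left_inv X := Subtype.ext (toMat_params X.2)
  right_inv c := params_toMat c

/-- The matrix describing the action on the fixed vectors. -/
def socleMat (c : Par d → F) : Matrix (Fin t) (Fin t) F :=
  Matrix.of fun k l => if h : d l - 1 < min (d k) (d l) then c ⟨(k, l), ⟨d l - 1, h⟩⟩ else 0

/-- The vector supported on the last index of each block. -/
def lift (lam : Fin t → F) (x : Idx d) : F := if x.2.1 + 1 = d x.1 then lam x.1 else 0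

theorem toMat_lift (hd : ∀ k, 1 ≤ d k) (c : Par d → F) (lam : Fin t → F) :
    (toMat c).mulVec (lift lam) = lift ((socleMat c).mulVec lam) := by
  funext ⟨k, ⟨a, ha⟩⟩
  simp only [Matrix.mulVec, dotProduct]
  rw [Fintype.sum_sigma]
  have hsum : ∀ l, ∑ b : Fin (d l), toMat c ⟨k, ⟨a, ha⟩⟩ ⟨l, b⟩ * lift lam ⟨l, b⟩ =
      if a + 1 = d k then socleMat c k l * lam l else 0 := by
    intro l
    have hl := hd l
    rw [Finset.sum_eq_single (⟨d l - 1, by omega⟩ : Fin (d l))]
    · simp only [toMat, socleMat, lift, Matrix.of_apply]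
      rw [if_pos (by omega)]
      by_cases hak : a + 1 = d k
      · rw [if_pos hak]
        congr 1
        split_ifs with h1 h2 <;> first | rfl | omega | (congr 2; ext; simp only; omega)
      · rw [if_neg hak, dif_neg (by omega), zero_mul]
    · intro b _ hb
      have hb' : b.1 + 1 ≠ d l := fun h => hb (Fin.ext (by simp only; omega))
      simp [lift, hb']
    · simp
  rw [Finset.sum_congr rfl fun l _ => hsum l]
  simp only [lift]
  split_ifs
  · rfl
  · exact Finset.sum_const_zero

theorem toMat_injective_iff (hd : ∀ k, 1 ≤ d k) (c : Par d → F) :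
    IsUnit (toMat c) ↔ IsUnit (socleMat c) := by
  rw [← Matrix.mulVec_injective_iff_isUnit, ← Matrix.mulVec_injective_iff_isUnit]
  constructor
  · intro h lam mu hlm
    have := h (a₁ := lift lam) (a₂ := lift mu) (by rw [toMat_lift hd, toMat_lift hd, hlm])
    funext k
    have hk := hd k
    have := congrFun this ⟨k, ⟨d k - 1, by omega⟩⟩
    simpa [lift, Nat.sub_add_cancel hk] using this
  · intro h
    have key : ∀ (s : ℕ) (v : Idx d → F), (∀ x : Idx d, x.2.1 + s < d x.1 → v x = 0) →
        (toMat c).mulVec v = 0 → v = 0 := by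
      intro s
      induction s with
      | zero => intro v hv _; funext x; exact hv x x.2.2
      | succ s ih =>
        intro v hv hv0
        let w : Idx d → F := (Cfsg.jordanTypeMatrix d F).mulVec v - v
        have hw : ∀ x, w x = if x.2.1 ≠ 0 then v (pre x) else 0 := fun x => by
          simp only [w, Pi.sub_apply, J_mulVec, add_sub_cancel_left]
        have hw0 : (toMat c).mulVec w = 0 := by
          simp only [w, Matrix.mulVec_sub, hv0, sub_zero]
          rw [Matrix.mulVec_mulVec, toMat_comm, ← Matrix.mulVec_mulVec, hv0, Matrix.mulVec_zero]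
        have hw' : w = 0 := by
          refine ih w (fun x hx => ?_) hw0
          rw [hw]
          split_ifs with h0
          · exact hv _ (by simp only [pre]; omega)
          · rfl
        have hlift : v = lift (fun k => if hk : 0 < d k then v ⟨k, ⟨d k - 1, by omega⟩⟩ else 0) := by
          funext ⟨k, ⟨a, ha⟩⟩
          simp only [lift]
          split_ifs with h1
          · exact congrArg v (idx_ext rfl (by simp only; omega))
          · omega
          · have := congrFun hw' ⟨k, ⟨a + 1, by omega⟩⟩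
            rw [hw, if_pos (Nat.succ_ne_zero a)] at this
            exact this
        rw [hlift, toMat_lift hd] at hv0
        have h00 : (socleMat c).mulVec (fun k => if hk : 0 < d k then v ⟨k, ⟨d k - 1, by omega⟩⟩ else 0) = 0 := by
          funext k
          have hk := hd k
          have := congrFun hv0 ⟨k, ⟨d k - 1, by omega⟩⟩
          simpa [lift, Nat.sub_add_cancel hk] using this
        have := h (h00.trans (Matrix.mulVec_zero _).symm)
        rw [hlift, this]
        funext x
        simp [lift]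
    intro v v' hvv
    have := key (Finset.univ.sup d) (v - v') (fun x hx => absurd hx (by
      have := Finset.le_sup (f := d) (Finset.mem_univ x.1); omega))
      (by rw [Matrix.mulVec_sub, hvv, sub_self])
    exact sub_eq_zero.mp this

theorem socleMat_isUnit_iff (c : Par d → F) :
    IsUnit (socleMat c) ↔
      ∀ i : ℕ, IsUnit ((socleMat c).toSquareBlock d i) := by
  have htri : (socleMat c)ᵀ.BlockTriangular d := by
    intro i j hij
    simp only [Matrix.transpose_apply, socleMat, Matrix.of_apply]
    rw [dif_neg (by omega)]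
  simp only [Matrix.isUnit_iff_isUnit_det, isUnit_iff_ne_zero]
  rw [← Matrix.det_transpose, htri.det, Finset.prod_ne_zero_iff]
  constructor
  · intro h i
    by_cases hi : i ∈ Finset.univ.image d
    · have := h i hi
      rwa [← Matrix.det_transpose] at this
    · haveI : IsEmpty {k // d k = i} := ⟨fun k => hi (Finset.mem_image.mpr ⟨k.1, Finset.mem_univ _, k.2⟩)⟩
      rw [Matrix.det_isEmpty]
      exact one_ne_zero
  · intro h i _
    rw [← Matrix.det_transpose]
    exact h i

end CfsgLib.UnipotentGL
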