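import Cfsg.Agent.Lib.UnipotentGL.Commutant

/-!
The number of invertible matrices commuting with a unipotent matrix of given Jordan type.
-/

set_option autoImplicit false
set_option maxHeartbeats 200000

namespace CfsgLib.UnipotentGL

open Matrix

variable {F : Type*} [Field F] {t : ℕ} {d : Fin t → ℕ}

/-- The parameters entering the diagonal blocks of `socleMat`. -/
def IsDiag (q : Par d) : Prop := d q.1.1 = d q.1.2 ∧ q.2.1 + 1 = d q.1.2

instance : DecidablePred (IsDiag (d := d)) := fun q => by unfold IsDiag; infer_instance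

/-- The index type of the diagonal blocks. -/
abbrev Blk (d : Fin t → ℕ) : Type :=
  (i : Fin (Finset.univ.sup d + 1)) × ({k // d k = i.1} × {k // d k = i.1})

theorem blk_pos (hd : ∀ k, 1 ≤ d k) (x : Blk d) :
    d x.2.2.1 - 1 < min (d x.2.1.1) (d x.2.2.1) := by
  have h1 := x.2.1.2
  have h2 := x.2.2.2
  have := hd x.2.2.1
  omega

/-- Diagonal parameters are the entries of the diagonal blocks. -/
noncomputable def diagEquiv (hd : ∀ k, 1 ≤ d k) : Blk d ≃ {q : Par d // IsDiag q} :=
  Equiv.ofBijective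
    (fun x => ⟨⟨(x.2.1.1, x.2.2.1), ⟨d x.2.2.1 - 1, blk_pos hd x⟩⟩,
      x.2.1.2.trans x.2.2.2.symm, Nat.sub_add_cancel (hd _)⟩)
    ⟨by
      rintro ⟨i, ⟨k, hk⟩, ⟨l, hl⟩⟩ ⟨i', ⟨k', hk'⟩, ⟨l', hl'⟩⟩ h
      have h' := congrArg Sigma.fst (congrArg Subtype.val h)
      simp only [Prod.mk.injEq] at h'
      obtain ⟨rfl, rfl⟩ := h'
      have : i = i' := Fin.ext (hk.symm.trans hk')
      subst this
      rfl,
    by
      rintro ⟨⟨⟨k, l⟩, ⟨j, hj⟩⟩, hkl, hjl⟩
      simp only at hkl hjl
      have := Finset.le_sup (f := d) (Finset.mem_univ k)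
      refine ⟨⟨⟨d k, by omega⟩, ⟨k, rfl⟩, ⟨l, hkl.symm⟩⟩, ?_⟩
      apply Subtype.ext
      simp only [Sigma.mk.injEq, heq_eq_eq, true_and, Fin.ext_iff]
      omega⟩

theorem det_ne_zero_iff_GL {ι : Type*} [Fintype ι] [DecidableEq ι] [Fintype F] :
    Nat.card {A : Matrix ι ι F // IsUnit A} =
      ∏ j : Fin (Fintype.card ι), (Fintype.card F ^ Fintype.card ι - Fintype.card F ^ (j : ℕ)) := by
  have e1 : {A : Matrix ι ι F // IsUnit A} ≃ GL ι F :=
    (Equiv.ofBijective (fun g : GL ι F => (⟨g, g.isUnit⟩ : {A : Matrix ι ι F // IsUnit A}))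
      ⟨fun g h hgh => Units.ext (congrArg Subtype.val hgh), fun ⟨A, hA⟩ => ⟨hA.unit, Subtype.ext rfl⟩⟩).symm
  have e2 : GL ι F ≃* GL (Fin (Fintype.card ι)) F :=
    Units.mapEquiv (Matrix.reindexAlgEquiv F F (Fintype.equivFin ι)).toMulEquiv
  rw [Nat.card_congr (e1.trans e2.toEquiv), Matrix.card_GL_field]

/-- The parameters, split into the diagonal blocks and the rest. -/
noncomputable def splitEquiv (hd : ∀ k, 1 ≤ d k) : (Par d → F) ≃
    ((i : Fin (Finset.univ.sup d + 1)) → Matrix {k // d k = i.1} {k // d k = i.1} F) ×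
      ({q : Par d // ¬ IsDiag q} → F) :=
  (Equiv.piEquivPiSubtypeProd (IsDiag (d := d)) fun _ => F).trans
    (Equiv.prodCongr
      (((Equiv.arrowCongr (diagEquiv hd).symm (Equiv.refl F)).trans
        (Equiv.piCurry (fun (_ : Fin (Finset.univ.sup d + 1)) _ => F))).trans
        (Equiv.piCongrRight fun _ => (Equiv.curry _ _ F).trans Matrix.of))
      (Equiv.refl _))

theorem splitEquiv_fst (hd : ∀ k, 1 ≤ d k) (c : Par d → F) (i : Fin (Finset.univ.sup d + 1)) :
    (splitEquiv hd c).1 i = (socleMat c).toSquareBlock d i.1 := by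
  ext ⟨k, hk⟩ ⟨l, hl⟩
  simp only [Matrix.toSquareBlock_def, socleMat, Matrix.of_apply]
  rw [dif_pos (blk_pos hd ⟨i, ⟨k, hk⟩, ⟨l, hl⟩⟩)]
  rfl

theorem card_units_comm [Fintype F] (hd : ∀ k, 1 ≤ d k) :
    Nat.card {X : Matrix (Idx d) (Idx d) F //
        X * Cfsg.jordanTypeMatrix d F = Cfsg.jordanTypeMatrix d F * X ∧ IsUnit X} =
      Fintype.card F ^ Nat.card {q : Par d // ¬ IsDiag q} *
        ∏ i : Fin (Finset.univ.sup d + 1), ∏ j : Fin (Fintype.card {k // d k = i.1}),
          (Fintype.card F ^ Fintype.card {k // d k = i.1} - Fintype.card F ^ (j : ℕ)) := by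
  have e1 : {X : Matrix (Idx d) (Idx d) F //
      X * Cfsg.jordanTypeMatrix d F = Cfsg.jordanTypeMatrix d F * X ∧ IsUnit X} ≃
      {c : Par d → F // IsUnit (socleMat c)} :=
    (Equiv.subtypeSubtypeEquivSubtypeInter _ _).symm.trans
      (commEquiv.subtypeEquiv fun X => by
        rw [← toMat_injective_iff hd]
        show IsUnit X.1 ↔ IsUnit (toMat (params X.1))
        rw [toMat_params X.2])
  have e2 : {c : Par d → F // IsUnit (socleMat c)} ≃
      ((i : Fin (Finset.univ.sup d + 1)) →
        {A : Matrix {k // d k = i.1} {k // d k = i.1} F // IsUnit A}) ×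
        ({q : Par d // ¬ IsDiag q} → F) :=
    ((splitEquiv hd).subtypeEquiv
      (q := fun p => ∀ i, IsUnit (p.1 i)) fun c => by
        simp only [splitEquiv_fst, socleMat_isUnit_iff]
        constructor
        · exact fun h i => h i.1
        · intro h i
          by_cases hi : i < Finset.univ.sup d + 1
          · exact h ⟨i, hi⟩
          · haveI : IsEmpty {k // d k = i} := ⟨fun k => by
              have := Finset.le_sup (f := d) (Finset.mem_univ k.1); have := k.2; omega⟩
            exact isUnit_of_subsingleton _).trans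
    ((Equiv.prodSubtypeFstEquivSubtypeProd (α := (i : Fin (Finset.univ.sup d + 1)) →
        Matrix {k // d k = i.1} {k // d k = i.1} F) (p := fun f => ∀ i, IsUnit (f i))).trans
      (Equiv.prodCongr Equiv.subtypePiEquivPi (Equiv.refl _)))
  rw [Nat.card_congr (e1.trans e2), Nat.card_prod, mul_comm, Nat.card_fun, Nat.card_pi,
    Nat.card_eq_fintype_card (α := F)]
  congr 1
  exact Finset.prod_congr rfl fun i _ => det_ne_zero_iff_GL

/-- The number of parameters outside the diagonal blocks. -/
theorem card_not_diag (hd : ∀ k, 1 ≤ d k) :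
    Nat.card {q : Par d // ¬ IsDiag q} =
      ∑ k, ∑ l, (min (d k) (d l) - if d k = d l then 1 else 0) := by
  classical
  have h1 : Nat.card {q : Par d // ¬ IsDiag q} + Nat.card {q : Par d // IsDiag q} =
      ∑ k, ∑ l, min (d k) (d l) := by
    rw [← Nat.card_sum, Nat.card_congr ((Equiv.sumComm _ _).trans (Equiv.sumCompl _)),
      Nat.card_eq_fintype_card, Fintype.card_sigma, Fintype.sum_prod_type]
    simp
  have h2 : Nat.card {q : Par d // IsDiag q} = ∑ k, ∑ l, if d k = d l then 1 else 0 := by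
    have e : {q : Par d // IsDiag q} ≃ {p : Fin t × Fin t // d p.1 = d p.2} :=
      { toFun := fun q => ⟨q.1.1, q.2.1⟩
        invFun := fun p => ⟨⟨p.1, ⟨d p.1.2 - 1, by have := p.2; have := hd p.1.2; omega⟩⟩,
          p.2, Nat.sub_add_cancel (hd _)⟩
        left_inv := fun ⟨⟨p, j⟩, h1, h2⟩ => by
          apply Subtype.ext
          simp only [Sigma.mk.injEq, heq_eq_eq, true_and, Fin.ext_iff]
          simp only at h2
          omega
        right_inv := fun p => rfl }
    rw [Nat.card_congr e, Nat.card_eq_fintype_card, Fintype.card_subtype, Finset.card_filter,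
      Fintype.sum_prod_type]
  have h3 : ∀ k l, (min (d k) (d l) - if d k = d l then 1 else 0) + (if d k = d l then 1 else 0) =
      min (d k) (d l) := fun k l => by
    have := hd k; have := hd l
    split_ifs <;> omega
  have h4 : (∑ k, ∑ l, (min (d k) (d l) - if d k = d l then 1 else 0)) +
      (∑ k, ∑ l, if d k = d l then 1 else 0) = ∑ k, ∑ l, min (d k) (d l) := by
    simp only [← Finset.sum_add_distrib, h3]
  omega

theorem exponent_eq :
    ∑ k, ∑ l, (min (d k) (d l) - if d k = d l then 1 else 0) =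
      2 * (∑ i ∈ Finset.range (Finset.univ.sup d + 1), ∑ j ∈ Finset.range (Finset.univ.sup d + 1),
          if i < j then i * (Finset.univ.filter (fun k : Fin t => d k = i)).card *
            (Finset.univ.filter (fun k : Fin t => d k = j)).card else 0) +
        ∑ i ∈ Finset.range (Finset.univ.sup d + 1),
          (i - 1) * (Finset.univ.filter (fun k : Fin t => d k = i)).card ^ 2 := by
  set R := Finset.range (Finset.univ.sup d + 1)
  set a : ℕ → ℕ := fun i => (Finset.univ.filter (fun k : Fin t => d k = i)).card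
  have hR : ∀ k ∈ (Finset.univ : Finset (Fin t)), d k ∈ R := fun k _ =>
    Finset.mem_range.mpr (Nat.lt_succ_of_le (Finset.le_sup (Finset.mem_univ k)))
  have key : ∀ f : ℕ → ℕ, ∑ k, f (d k) = ∑ i ∈ R, a i * f i := fun f => by
    rw [← Finset.sum_fiberwise_of_maps_to hR]
    refine Finset.sum_congr rfl fun i _ => ?_
    rw [Finset.sum_congr rfl (fun k hk => by rw [(Finset.mem_filter.mp hk).2] :
      ∀ k ∈ Finset.univ.filter (fun k => d k = i), f (d k) = f i), Finset.sum_const, smul_eq_mul]
  rw [key (fun x => ∑ l, (min x (d l) - if x = d l then 1 else 0))]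
  have key2 : ∀ x, (∑ l, (min x (d l) - if x = d l then 1 else 0)) =
      ∑ j ∈ R, a j * (min x j - if x = j then 1 else 0) := fun x =>
    key (fun y => min x y - if x = y then 1 else 0)
  simp only [key2]
  rw [Finset.sum_congr rfl fun i _ => Finset.mul_sum _ _ _]
  have step : ∀ i j : ℕ, a i * (a j * (min i j - if i = j then 1 else 0)) =
      ((if i < j then i * a i * a j else 0) + (if j < i then j * a j * a i else 0)) +
        (if i = j then (i - 1) * a i ^ 2 else 0) := by
    intro i j
    rcases lt_trichotomy i j with h | h | h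
    · simp [h, h.ne, h.not_gt, min_eq_left h.le]; ring
    · subst h; simp; ring
    · simp [h, h.ne', h.not_gt, min_eq_right h.le]; ring
  simp only [step, Finset.sum_add_distrib]
  rw [Finset.sum_comm (f := fun i j => if j < i then j * a j * a i else 0)]
  simp only [Finset.sum_ite_eq]
  rw [two_mul]
  congr 1
  exact Finset.sum_congr rfl fun i hi => by simp [hi, a]

theorem prod_fin_congr (q : ℕ) {a b : ℕ} (h : a = b) :
    ∏ j : Fin a, (q ^ a - q ^ (j : ℕ)) = ∏ j : Fin b, (q ^ b - q ^ (j : ℕ)) := by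
  subst h; rfl

end CfsgLib.UnipotentGL
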