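import Mathlib.LinearAlgebra.Matrix.GeneralLinearGroup.Card
import Mathlib.LinearAlgebra.Projection
import Mathlib.LinearAlgebra.FreeModule.Finite.Basic
import Mathlib.FieldTheory.Finiteness
import Mathlib.RingTheory.Nilpotent.Basic
import Mathlib.LinearAlgebra.Dimension.Constructions
import Mathlib.LinearAlgebra.FreeModule.Finite.Matrix

/-!
# The number of nilpotent operators

Over a field with `q` elements there are `q ^ (n * (n - 1))` nilpotent operators on an
`n`-dimensional space (Fine–Herstein), by counting pairs (operator, vector) along chains.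
-/

set_option autoImplicit false
set_option linter.style.haveILetI false

namespace CfsgLib.NilpotentCount

open Module

universe u v

variable {F : Type u} [Field F] {V : Type v} [AddCommGroup V] [Module F V] {d : ℕ}

/-- The tuple continued by zeros. -/
def ext0 (u : Fin d → V) (j : ℕ) : V := if h : j < d then u ⟨j, h⟩ else 0

theorem ext0_val (u : Fin d → V) (i : Fin d) : ext0 u i = u i := dif_pos i.2

theorem ext0_of_le (u : Fin d → V) {j : ℕ} (h : d ≤ j) : ext0 u j = 0 := dif_neg (not_lt.2 h)

/-- `T` moves the tuple one step. -/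
def Shifts (T : Module.End F V) (u : Fin d → V) : Prop := ∀ i : Fin d, T (u i) = ext0 u (i + 1)

theorem Shifts.pow {T : Module.End F V} {u : Fin d → V} (h : Shifts T u) :
    ∀ (j k : ℕ), (T ^ j) (ext0 u k) = ext0 u (k + j) := by
  intro j
  induction j with
  | zero => intro k; simp
  | succ j ih =>
    intro k
    rw [pow_succ, Module.End.mul_apply]
    rcases lt_or_ge k d with hk | hk
    · rw [show ext0 u k = u ⟨k, hk⟩ from dif_pos hk, h ⟨k, hk⟩, ih]
      congr 1
      show k + 1 + j = k + (j + 1)
      omega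
    · rw [ext0_of_le u hk, map_zero, map_zero, ext0_of_le u (by omega)]

/-- The length of the chain of `v` under `T` is `d`. -/
def Len (T : Module.End F V) (v : V) (d : ℕ) : Prop := (T ^ d) v = 0 ∧ ∀ j < d, (T ^ j) v ≠ 0

theorem Len.linearIndependent {T : Module.End F V} {v : V} (h : Len T v d) :
    LinearIndependent F fun i : Fin d => (T ^ (i : ℕ)) v := by
  classical
  rw [Fintype.linearIndependent_iff]
  intro g hg i
  by_contra hi
  obtain ⟨i0, hi0, hmin⟩ : ∃ i0 : Fin d, g i0 ≠ 0 ∧ ∀ j < i0, g j = 0 := by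
    obtain ⟨i0, hi0, hmin⟩ := Finset.exists_min_image (Finset.univ.filter fun j => g j ≠ 0) id ⟨i, by simp [hi]⟩
    rw [Finset.mem_filter] at hi0
    exact ⟨i0, hi0.2, fun j hj => by_contra fun hgj => absurd (hmin j (by simp [hgj])) (not_le.2 hj)⟩
  have h1 := congrArg (T ^ (d - 1 - i0 : ℕ)) hg
  simp only [map_sum, map_smul, map_zero] at h1
  rw [Finset.sum_eq_single i0] at h1
  · rw [← Module.End.mul_apply, ← pow_add, show d - 1 - (i0 : ℕ) + i0 = d - 1 by omega] at h1
    rcases smul_eq_zero.1 h1 with h2 | h2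
    · exact hi0 h2
    · exact h.2 (d - 1) (by have := i0.2; omega) h2
  · intro j _ hj
    rcases lt_or_gt_of_ne hj with hlt | hgt
    · rw [hmin j hlt, zero_smul]
    · have hgt' : (i0 : ℕ) < j := hgt
      rw [← Module.End.mul_apply, ← pow_add, show d - 1 - (i0 : ℕ) + j = (j - i0 - 1) + d by omega,
        pow_add, Module.End.mul_apply, h.1, map_zero, smul_zero]
  · simp

/-- Pairs with chain length `d` correspond to independent tuples with a nilpotent shift. -/
def lenEquiv (d : ℕ) :
    {p : Module.End F V × V // IsNilpotent p.1 ∧ Len p.1 p.2 d} ≃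
      Σ u : {u : Fin d → V // LinearIndependent F u}, {T : Module.End F V // IsNilpotent T ∧ Shifts T u.1} where
  toFun p := ⟨⟨fun i => (p.1.1 ^ (i : ℕ)) p.1.2, p.2.2.linearIndependent⟩, p.1.1, p.2.1, fun i => by
    show p.1.1 ((p.1.1 ^ (i : ℕ)) p.1.2) = ext0 _ _
    rw [← Module.End.mul_apply, ← pow_succ']
    rcases lt_or_ge ((i : ℕ) + 1) d with h | h
    · rw [ext0, dif_pos h]
    · rw [ext0_of_le _ h, show (i : ℕ) + 1 = d by omega]
      exact p.2.2.1⟩
  invFun s := ⟨(s.2.1, ext0 s.1.1 0), s.2.2.1, by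
    refine ⟨?_, fun j hj => ?_⟩
    · show (s.2.1 ^ d) (ext0 s.1.1 0) = 0
      rw [s.2.2.2.pow, ext0_of_le _ (by omega)]
    · show (s.2.1 ^ j) (ext0 s.1.1 0) ≠ 0
      rw [s.2.2.2.pow, zero_add, ext0, dif_pos hj]
      exact s.1.2.ne_zero _⟩
  left_inv p := by
    refine Subtype.ext (Prod.ext rfl ?_)
    show ext0 _ 0 = p.1.2
    rcases Nat.eq_zero_or_pos d with rfl | hd
    · rw [ext0_of_le _ le_rfl]
      exact (by simpa using p.2.2.1 : p.1.2 = 0).symm
    · simp [ext0, hd]
  right_inv s := by
    obtain ⟨⟨u, hu⟩, T, hT, hsh⟩ := s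
    have hfun : (fun i : Fin d => (T ^ (i : ℕ)) (ext0 u 0)) = u :=
      funext fun i => by rw [hsh.pow, zero_add, ext0_val]
    exact Sigma.subtype_ext (Subtype.ext hfun) rfl

variable [FiniteDimensional F V] [Fintype F]

/-- The number of nilpotent extensions of a chain. -/
theorem card_shifts {u : Fin d → V} (hu : LinearIndependent F u) (N : ℕ)
    (hN : ∀ W : Submodule F V, finrank F W = finrank F V - d →
      Nat.card {S : Module.End F W // IsNilpotent S} = N) :
    Nat.card {T : Module.End F V // IsNilpotent T ∧ Shifts T u} =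
      Fintype.card F ^ (d * (finrank F V - d)) * N := by
  classical
  haveI : Finite V := Module.finite_of_finite F
  set U := Submodule.span F (Set.range u)
  have hU : finrank F U = d := by rw [finrank_span_eq_card hu, Fintype.card_fin]
  obtain ⟨W, hW⟩ := U.exists_isCompl
  have hWd : finrank F W = finrank F V - d := by
    have := Submodule.finrank_add_eq_of_isCompl hW
    omega
  let π : V →ₗ[F] W := W.projectionOnto U hW.symm
  let π' : V →ₗ[F] U := U.projectionOnto W hW
  let B := Module.Basis.span hu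
  have hB : ∀ i, (B i : V) = u i := fun i => congrArg Subtype.val (Module.Basis.span_apply hu i)
  let T0 : U →ₗ[F] V := B.constr F fun i => ext0 u (i + 1)
  have hmem : ∀ j, ext0 u j ∈ U := fun j => by
    rw [ext0]; split_ifs
    · exact Submodule.subset_span ⟨_, rfl⟩
    · exact zero_mem U
  have hTU : ∀ {T : Module.End F V}, Shifts T u → ∀ x ∈ U, T x ∈ U ∧ (T ^ d) x = 0 := by
    intro T hT x hx
    induction hx using Submodule.span_induction with
    | mem x hx =>
      obtain ⟨i, rfl⟩ := hx
      refine ⟨by rw [hT i]; exact hmem _, ?_⟩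
      rw [← ext0_val u i, hT.pow, ext0_of_le u (by omega)]
    | zero => simp
    | add x y _ _ hx hy => simp [map_add, add_mem hx.1 hy.1, hx.2, hy.2]
    | smul c x _ hx => simp [map_smul, Submodule.smul_mem _ c hx.1, hx.2]
  have hdec : ∀ x : V, (π' x : V) + (π x : V) = x := fun x =>
    Submodule.projection_add_projection_eq_self hW x
  have hpiU : ∀ x ∈ U, π x = 0 := fun x hx => (Submodule.projectionOnto_apply_eq_zero_iff hW.symm).2 hx
  have key : ∀ T : Module.End F V, Shifts T u →
      (IsNilpotent T ↔ IsNilpotent (π ∘ₗ (T ∘ₗ W.subtype) : Module.End F W)) := by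
    intro T hT
    set S : Module.End F W := π ∘ₗ (T ∘ₗ W.subtype)
    have h1 : ∀ k, ∀ x : V, π ((T ^ k) x) = (S ^ k) (π x) := by
      intro k
      induction k with
      | zero => intro x; rfl
      | succ k ih =>
        intro x
        rw [pow_succ, Module.End.mul_apply, ih, pow_succ, Module.End.mul_apply]
        congr 1
        conv_lhs => rw [← hdec x, map_add, map_add, hpiU _ (hTU hT _ (π' x).2).1, zero_add]
        rfl
    constructor
    · rintro ⟨k, hk⟩
      refine ⟨k, LinearMap.ext fun w => ?_⟩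
      have := h1 k (w : V)
      rw [hk, show π (w : V) = w from Submodule.projectionOnto_apply_left hW.symm w] at this
      simpa using this.symm
    · rintro ⟨k, hk⟩
      refine ⟨d + k, LinearMap.ext fun x => ?_⟩
      rw [pow_add, Module.End.mul_apply]
      refine (hTU hT _ ?_).2
      exact (Submodule.projectionOnto_apply_eq_zero_iff hW.symm).1 (by show π _ = 0; rw [h1, hk]; rfl)
  have hof : ∀ R : W →ₗ[F] V, Shifts (LinearMap.ofIsCompl hW T0 R) u := fun R i => by
    rw [← hB i, LinearMap.ofIsCompl_apply_left]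
    exact B.constr_basis F _ i
  let e1 : {T : Module.End F V // IsNilpotent T ∧ Shifts T u} ≃
      {R : W →ₗ[F] V // IsNilpotent (π ∘ₗ R : Module.End F W)} :=
    { toFun := fun T => ⟨T.1 ∘ₗ W.subtype, (key T.1 T.2.2).1 T.2.1⟩
      invFun := fun R => ⟨LinearMap.ofIsCompl hW T0 R.1, (key _ (hof R.1)).2 (by
        have : (LinearMap.ofIsCompl hW T0 R.1) ∘ₗ W.subtype = R.1 :=
          LinearMap.ext fun w => LinearMap.ofIsCompl_apply_right hW w
        rw [this]; exact R.2), hof R.1⟩
      left_inv := fun T => Subtype.ext (LinearMap.ofIsCompl_eq hW (fun x => by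
        have : T0 = T.1 ∘ₗ U.subtype := B.ext fun i => by
          rw [B.constr_basis]; show _ = T.1 (B i : V); rw [hB, T.2.2 i]
        rw [this]; rfl) (fun w => rfl))
      right_inv := fun R => Subtype.ext (LinearMap.ext fun w => LinearMap.ofIsCompl_apply_right hW w) }
  let e2 : {R : W →ₗ[F] V // IsNilpotent (π ∘ₗ R : Module.End F W)} ≃
      (W →ₗ[F] U) × {S : Module.End F W // IsNilpotent S} :=
    { toFun := fun R => (π' ∘ₗ R.1, ⟨π ∘ₗ R.1, R.2⟩)
      invFun := fun P => ⟨U.subtype ∘ₗ P.1 + W.subtype ∘ₗ (P.2.1 : W →ₗ[F] W), by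
        have : π ∘ₗ (U.subtype ∘ₗ P.1 + W.subtype ∘ₗ (P.2.1 : W →ₗ[F] W)) = P.2.1 := LinearMap.ext fun w => by
          simp [π]
        rw [this]; exact P.2.2⟩
      left_inv := fun R => Subtype.ext (LinearMap.ext fun w => hdec (R.1 w))
      right_inv := fun P => Prod.ext (LinearMap.ext fun w => by simp [π']) (Subtype.ext (LinearMap.ext fun w => by simp [π])) }
  rw [Nat.card_congr (e1.trans e2), Nat.card_prod, hN W hWd, Module.natCard_eq_pow_finrank (K := F),
    Module.finrank_linearMap, hU, hWd, Nat.card_eq_fintype_card, mul_comm (finrank F V - d)]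

theorem chain_sum (q n : ℕ) (hq : 0 < q) : ∀ m < n,
    ∑ i ∈ Finset.range (m + 1), (∏ j ∈ Finset.range (n - i), (q ^ n - q ^ j)) * q ^ ((n - 1) * i) =
      (∏ j ∈ Finset.range (n - m), (q ^ n - q ^ j)) * q ^ (n * m) := by
  intro m hm
  induction m with
  | zero => simp
  | succ m ih =>
    rw [Finset.sum_range_succ, ih (by omega), show n - m = n - (m + 1) + 1 by omega, Finset.prod_range_succ,
      mul_assoc, ← mul_add]
    congr 1
    have h1 : (n - 1) * (m + 1) = n - (m + 1) + n * m := by
      obtain ⟨a, rfl⟩ : ∃ a, n = m + 1 + 1 + a := ⟨n - (m + 2), by omega⟩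
      rw [show m + 1 + 1 + a - 1 = m + 1 + a by omega, show m + 1 + 1 + a - (m + 1) = 1 + a by omega]
      ring
    have h2 : q ^ (n - (m + 1)) ≤ q ^ n := Nat.pow_le_pow_right hq (by omega)
    rw [h1, pow_add, ← add_mul, Nat.sub_add_cancel h2, ← pow_add]
    congr 1
    rw [Nat.mul_succ, Nat.add_comm]

/-- Fine–Herstein: the number of nilpotent operators. -/
theorem card_nilpotent : ∀ (n : ℕ) (V : Type v) [AddCommGroup V] [Module F V] [FiniteDimensional F V],
    finrank F V = n → Nat.card {T : Module.End F V // IsNilpotent T} = Fintype.card F ^ (n * (n - 1)) := by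
  classical
  intro n
  induction n using Nat.strong_induction_on with
  | _ n ih =>
  intro V _ _ _ hn
  haveI : Finite V := Module.finite_of_finite F
  haveI : Finite (Module.End F V) := Module.finite_of_finite F
  haveI : Fintype V := Fintype.ofFinite V
  haveI : Fintype {T : Module.End F V // IsNilpotent T} := Fintype.ofFinite _
  set q := Fintype.card F
  have hq : 1 < q := Fintype.one_lt_card
  rcases Nat.eq_zero_or_pos n with rfl | hn0
  · haveI : Subsingleton V := Module.finrank_zero_iff.1 hn
    haveI : Subsingleton (Module.End F V) := ⟨fun a b => LinearMap.ext fun x => Subsingleton.elim _ _⟩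
    rw [zero_mul, pow_zero]
    exact Nat.card_eq_one_iff_unique.2 ⟨inferInstance, ⟨⟨0, IsNilpotent.zero⟩⟩⟩
  set N := Nat.card {T : Module.End F V // IsNilpotent T}
  have hcount : ∀ d ≤ n, Nat.card {p : Module.End F V × V // IsNilpotent p.1 ∧ Len p.1 p.2 d} =
      (∏ j ∈ Finset.range d, (q ^ n - q ^ j)) * (if d = 0 then N else q ^ ((n - 1) * (n - d))) := by
    intro d hd
    rw [Nat.card_congr (lenEquiv d)]
    rcases Nat.eq_zero_or_pos d with rfl | hd0
    · haveI : Unique {u : Fin 0 → V // LinearIndependent F u} :=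
        { default := ⟨Fin.elim0, linearIndependent_empty_type⟩, uniq := fun u => Subtype.ext (funext fun i => i.elim0) }
      rw [if_pos rfl, Finset.prod_range_zero, one_mul, Nat.card_congr (Equiv.uniqueSigma _)]
      exact Nat.card_congr (Equiv.subtypeEquivRight fun T => ⟨fun h => h.1, fun h => ⟨h, fun i => i.elim0⟩⟩)
    · haveI : Finite {u : Fin d → V // LinearIndependent F u} := inferInstance
      rw [if_neg hd0.ne', Nat.card_sigma]
      rw [Finset.sum_congr rfl fun u _ => card_shifts u.2 (q ^ ((n - d) * (n - d - 1))) fun W hW =>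
        ih (n - d) (by omega) W (by rw [hW, hn])]
      rw [Finset.sum_const, smul_eq_mul, Finset.card_univ, ← Nat.card_eq_fintype_card,
        card_linearIndependent (by omega), hn, Finset.prod_range fun j => q ^ n - q ^ j, ← pow_add]
      congr 2
      obtain ⟨a, rfl⟩ : ∃ a, n = d + a := ⟨n - d, by omega⟩
      rw [Nat.add_sub_cancel_left]
      rcases a with _ | a
      · simp
      · rw [show d + (a + 1) - 1 = d + a by omega, show a + 1 - 1 = a by omega]; ring
  -- the partition by chain length
  have hlen : ∀ p : {p : Module.End F V × V // IsNilpotent p.1}, ∃ d ≤ n, Len p.1.1 p.1.2 d := by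
    rintro ⟨⟨T, x⟩, k, hk⟩
    have hex : ∃ d, (T ^ d) x = 0 := ⟨k, by rw [hk]; rfl⟩
    have hlen : Len T x (Nat.find hex) := ⟨Nat.find_spec hex, fun j hj => Nat.find_min hex hj⟩
    refine ⟨_, ?_, hlen⟩
    have := hlen.linearIndependent.fintype_card_le_finrank
    rwa [Fintype.card_fin, hn] at this
  have huniq : ∀ (T : Module.End F V) (x : V) (a b : ℕ), Len T x a → Len T x b → a = b := fun T x a b ha hb =>
    le_antisymm (not_lt.1 fun h => ha.2 b h hb.1) (not_lt.1 fun h => hb.2 a h ha.1)
  choose L hL using hlen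
  let e : {p : Module.End F V × V // IsNilpotent p.1} ≃
      Σ d : Fin (n + 1), {p : Module.End F V × V // IsNilpotent p.1 ∧ Len p.1 p.2 d} :=
    { toFun := fun p => ⟨⟨L p, by have := (hL p).1; omega⟩, p.1, p.2, (hL p).2⟩
      invFun := fun s => ⟨s.2.1, s.2.2.1⟩
      left_inv := fun p => rfl
      right_inv := fun ⟨d, p, hp, hd⟩ => Sigma.subtype_ext
        (Fin.ext (huniq p.1 p.2 _ _ (hL ⟨p, hp⟩).2 hd)) rfl }
  have htot : N * q ^ n = ∑ d ∈ Finset.range (n + 1),
      (∏ j ∈ Finset.range d, (q ^ n - q ^ j)) * (if d = 0 then N else q ^ ((n - 1) * (n - d))) := by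
    rw [← Fin.sum_univ_eq_sum_range (fun d => (∏ j ∈ Finset.range d, (q ^ n - q ^ j)) *
      (if d = 0 then N else q ^ ((n - 1) * (n - d))))]
    rw [← Finset.sum_congr rfl fun (d : Fin (n + 1)) _ => hcount d (by omega), ← Nat.card_sigma,
      ← Nat.card_congr e, Nat.card_congr (Equiv.prodSubtypeFstEquivSubtypeProd (p := fun T : Module.End F V => IsNilpotent T)),
      Nat.card_prod, Module.natCard_eq_pow_finrank (K := F) (V := V), hn, Nat.card_eq_fintype_card (α := F)]
  rw [Finset.sum_range_succ', if_pos rfl, Finset.prod_range_zero, one_mul] at htot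
  have hR := chain_sum q n (by omega) (n - 1) (by omega)
  rw [show n - 1 + 1 = n by omega, show n - (n - 1) = 1 by omega, Finset.prod_range_one, pow_zero] at hR
  rw [← Finset.sum_range_reflect] at hR
  have hsum : ∑ d ∈ Finset.range n, (∏ j ∈ Finset.range (d + 1), (q ^ n - q ^ j)) *
      (if d + 1 = 0 then N else q ^ ((n - 1) * (n - (d + 1)))) = (q ^ n - 1) * q ^ (n * (n - 1)) := by
    rw [← hR]
    refine Finset.sum_congr rfl fun i hi => ?_
    rw [Finset.mem_range] at hi
    rw [if_neg (Nat.succ_ne_zero i), show n - (n - 1 - i) = i + 1 by omega, show n - (i + 1) = n - 1 - i by omega]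
  rw [hsum] at htot
  have hqn : 1 < q ^ n := Nat.one_lt_pow hn0.ne' hq
  refine Nat.eq_of_mul_eq_mul_left (show 0 < q ^ n - 1 by omega) ?_
  rw [mul_comm _ N, Nat.mul_sub_one, htot, Nat.add_sub_cancel]

end CfsgLib.NilpotentCount
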